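import Cfsg.Agent.GTwoSylow.Main
import Cfsg.Agent.Quad.IndexTwo

/-!
# Squares in Sylow 2-subgroups of `G₂(q)`
-/

set_option autoImplicit false
set_option linter.unusedSectionVars false
set_option linter.style.haveILetI false

namespace CfsgLib.GTwoSylow

open Matrix

/-- The preimage of a Sylow subgroup under an embedding with normal image. -/
theorem exists_sylow_comap {G H : Type*} [Group G] [Group H] [Finite G] [Finite H] {p : ℕ}
    [Fact p.Prime] (f : H →* G) (hf : Function.Injective f) (hn : f.range.Normal) (S : Sylow p G) :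
    ∃ T : Sylow p H, (T : Subgroup H) = (S : Subgroup G).comap f := by
  have hp' : IsPGroup p ((S : Subgroup G).comap f) :=
    S.isPGroup'.comap_of_injective f hf
  have hidx : ¬ p ∣ ((S : Subgroup G).comap f).index := fun h => by
    rw [Subgroup.index_comap] at h
    obtain ⟨c, hc⟩ := Subgroup.relIndex_dvd_index_of_normal f.range (S : Subgroup G)
    have h1 := Subgroup.relIndex_mul_index (inf_le_left : (S : Subgroup G) ⊓ f.range ≤ _)
    have h2 := Subgroup.relIndex_mul_index (inf_le_right : (S : Subgroup G) ⊓ f.range ≤ _)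
    rw [Subgroup.inf_relIndex_left] at h1
    rw [Subgroup.inf_relIndex_right, hc, ← h1] at h2
    have h0 : f.range.relIndex (S : Subgroup G) ≠ 0 := fun e => by
      rw [e, zero_mul] at hc; exact Subgroup.index_ne_zero_of_finite hc
    refine S.not_dvd_index (h.trans ⟨c, (Nat.eq_of_mul_eq_mul_left (Nat.pos_of_ne_zero h0) ?_).symm⟩)
    rw [← h2]; ring
  exact ⟨hp'.toSylow hidx, rfl⟩

/-- The product of two Sylow subgroups. -/
theorem exists_sylow_prod {G : Type*} [Group G] [Finite G] {p : ℕ} [Fact p.Prime] (P : Sylow p G) :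
    ∃ S : Sylow p (G × G), (S : Subgroup (G × G)) = (P : Subgroup G).prod P := by
  have hidx : ¬ p ∣ ((P : Subgroup G).prod (P : Subgroup G)).index := by
    rw [Subgroup.index_prod]
    intro h
    rcases (Fact.out : p.Prime).dvd_mul.1 h with h | h <;> exact P.not_dvd_index h
  have hp' : IsPGroup p ((P : Subgroup G).prod (P : Subgroup G)) := by
    obtain ⟨n, hn⟩ := IsPGroup.iff_card.1 P.isPGroup'
    refine IsPGroup.of_card (n := n + n) ?_
    rw [Nat.card_congr ((P : Subgroup G).prodEquiv (P : Subgroup G)).toEquiv, Nat.card_prod, hn, pow_add]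
  exact ⟨hp'.toSylow hidx, rfl⟩

theorem sq_mem_commutator_quaternion {Q : Type*} [Group Q] {k : ℕ} (hk : 1 ≤ k)
    (e : Q ≃* QuaternionGroup (2 ^ k)) (x : Q) : x ^ 2 ∈ commutator Q := by
  have hev : ∀ i : ZMod (2 * 2 ^ k), QuaternionGroup.a (2 * i) ∈
      commutator (QuaternionGroup (2 ^ k)) := by
    intro i
    have h := Subgroup.commutator_mem_commutator
      (Subgroup.mem_top (QuaternionGroup.a (n := 2 ^ k) i))
      (Subgroup.mem_top (QuaternionGroup.xa (n := 2 ^ k) 0))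
    rw [← commutator_def] at h
    convert h using 1
    show QuaternionGroup.a (2 * i) = QuaternionGroup.a i * QuaternionGroup.xa 0 *
      QuaternionGroup.a (-i) * QuaternionGroup.xa (((2 ^ k : ℕ) : ZMod (2 * 2 ^ k)) + 0)
    simp only [QuaternionGroup.a_mul_xa, QuaternionGroup.xa_mul_a, QuaternionGroup.xa_mul_xa]
    congr 1
    have h0 : ((2 * 2 ^ k : ℕ) : ZMod (2 * 2 ^ k)) = 0 := ZMod.natCast_self _
    push_cast at h0 ⊢
    linear_combination -h0
  have hsq : ∀ y : QuaternionGroup (2 ^ k), y ^ 2 ∈ commutator (QuaternionGroup (2 ^ k)) := by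
    rintro (i | i)
    · rw [pow_two, QuaternionGroup.a_mul_a, ← two_mul]
      exact hev i
    · rw [QuaternionGroup.xa_sq]
      obtain ⟨j, rfl⟩ : ∃ j, k = j + 1 := ⟨k - 1, by omega⟩
      convert hev ((2 ^ j : ℕ) : ZMod (2 * 2 ^ (j + 1))) using 2
      push_cast
      ring
  have h2 : e.symm.toMonoidHom ((e x) ^ 2) ∈
      (commutator (QuaternionGroup (2 ^ k))).map e.symm.toMonoidHom :=
    Subgroup.mem_map_of_mem _ (hsq _)
  rw [commutator_def, Subgroup.map_commutator, Subgroup.map_top_of_surjective _ e.symm.surjective,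
    ← commutator_def] at h2
  simpa using h2

theorem exists_noncomm_quaternion {Q : Type*} [Group Q] {k : ℕ} (hk : 1 ≤ k)
    (e : Q ≃* QuaternionGroup (2 ^ k)) : ∃ x y : Q, x * y ≠ y * x := by
  refine ⟨e.symm (QuaternionGroup.a 1), e.symm (QuaternionGroup.xa 0), fun h => ?_⟩
  rw [← map_mul, ← map_mul, e.symm.injective.eq_iff, QuaternionGroup.a_mul_xa,
    QuaternionGroup.xa_mul_a, QuaternionGroup.xa.injEq] at h
  have h2 : ((2 : ℕ) : ZMod (2 * 2 ^ k)) = 0 := by push_cast; linear_combination -h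
  rw [ZMod.natCast_eq_zero_iff] at h2
  have := Nat.le_of_dvd (by norm_num) h2
  have : 2 ^ 1 ≤ 2 ^ k := Nat.pow_le_pow_right (by norm_num) hk
  omega

variable {F : Type*} [Field F] [Fintype F]

local notation "M₂" => Matrix (Fin 2) (Fin 2) F
local notation "GL₂" => GL (Fin 2) F

/-- Diagonal matrices. -/
def diag (F : Type*) [Field F] : Fˣ × Fˣ →* GL (Fin 2) F where
  toFun u := ⟨!![(u.1 : F), 0; 0, u.2], !![(↑u.1⁻¹ : F), 0; 0, ↑u.2⁻¹],
    by simp [Matrix.mul_fin_two, Matrix.one_fin_two],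
    by simp [Matrix.mul_fin_two, Matrix.one_fin_two]⟩
  map_one' := by ext1; simp [Matrix.one_fin_two]
  map_mul' u v := by ext1; simp [Matrix.mul_fin_two]

/-- The monomial element of order four. -/
def swapJ (F : Type*) [Field F] : GL (Fin 2) F :=
  ⟨!![0, 1; -1, 0], !![0, -1; 1, 0], by simp [Matrix.mul_fin_two, Matrix.one_fin_two],
    by simp [Matrix.mul_fin_two, Matrix.one_fin_two]⟩

/-- The Sylow subgroup used. -/
theorem exists_data (hodd : Odd (Fintype.card F)) :
    ∃ (P : Sylow 2 (GL (Fin 2) F)) (ε : Fˣ), diag F (ε, 1) ∈ (P : Subgroup GL₂) ∧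
      swapJ F ∈ (P : Subgroup GL₂) ∧
      (∀ a ∈ (P : Subgroup GL₂), ∃ i : ℕ, Matrix.GeneralLinearGroup.det a = ε ^ i) := by
  haveI : Fact (Nat.Prime 2) := ⟨Nat.prime_two⟩
  obtain ⟨U⟩ : Nonempty (Sylow 2 Fˣ) := inferInstance
  haveI : IsCyclic (U : Subgroup Fˣ) := Subgroup.isCyclic _
  obtain ⟨ε, hε⟩ := IsCyclic.exists_monoid_generator (α := (U : Subgroup Fˣ))
  set T := ((U : Subgroup Fˣ).prod (U : Subgroup Fˣ)).map (diag F) with hT
  have hTp : IsPGroup 2 T := by
    refine IsPGroup.map ?_ _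
    obtain ⟨n, hn⟩ := IsPGroup.iff_card.1 U.isPGroup'
    refine IsPGroup.of_card (n := n + n) ?_
    rw [Nat.card_congr ((U : Subgroup Fˣ).prodEquiv (U : Subgroup Fˣ)).toEquiv, Nat.card_prod, hn, pow_add]
  have hJ : IsPGroup 2 (Subgroup.zpowers (swapJ F)) := by
    have hd : orderOf (swapJ F) ∣ 2 ^ 2 := orderOf_dvd_of_pow_eq_one (by
      ext1
      simp [swapJ, pow_succ, Matrix.mul_fin_two, Matrix.one_fin_two])
    obtain ⟨i, -, hi⟩ := (Nat.dvd_prime_pow Nat.prime_two).1 hd
    exact IsPGroup.of_card (n := i) (by rw [Nat.card_zpowers, hi])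
  have hnorm : Subgroup.zpowers (swapJ F) ≤ Subgroup.normalizer (T : Set GL₂) := by
    refine Subgroup.zpowers_le.2 (Subgroup.mem_normalizer_iff.2 fun g => ?_)
    have hc : ∀ u : Fˣ × Fˣ, swapJ F * diag F u * (swapJ F)⁻¹ = diag F (u.2, u.1) := fun u => by
      rw [mul_inv_eq_iff_eq_mul]
      ext1
      simp [swapJ, diag, Matrix.mul_fin_two]
    constructor
    · rintro ⟨u, ⟨h1, h2⟩, rfl⟩
      exact ⟨(u.2, u.1), ⟨h2, h1⟩, (hc u).symm⟩
    · rintro ⟨u, ⟨h1, h2⟩, hu⟩
      refine ⟨(u.2, u.1), ⟨h2, h1⟩, ?_⟩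
      have := hc (u.2, u.1)
      rw [hu] at this
      exact mul_left_cancel (mul_right_cancel this)
  obtain ⟨P, hP⟩ := (IsPGroup.to_sup_of_normal_right' hJ hTp hnorm).exists_le_sylow
  refine ⟨P, ε, hP (Subgroup.mem_sup_right ⟨((ε : Fˣ), 1), ⟨ε.2, one_mem _⟩, rfl⟩),
    hP (Subgroup.mem_sup_left (Subgroup.mem_zpowers _)), fun a ha => ?_⟩
  have hdet : Matrix.GeneralLinearGroup.det a ∈ (U : Subgroup Fˣ) := by
    obtain ⟨R, hR⟩ := (P.isPGroup'.map (Matrix.GeneralLinearGroup.det)).exists_le_sylow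
    haveI : Subsingleton (Sylow 2 Fˣ) := Sylow.unique_of_normal U inferInstance |>.instSubsingleton
    rw [Subsingleton.elim U R]
    exact hR (Subgroup.mem_map_of_mem _ ha)
  obtain ⟨i, hi⟩ := (Submonoid.mem_powers_iff _ _).1 (hε ⟨_, hdet⟩)
  exact ⟨i, by simpa using (congrArg Subtype.val hi).symm⟩

/-- The theorem for the doubled algebra. -/
theorem sq_mem_aut (hodd : Odd (Fintype.card F)) [Finite (autV F)] :
    ∀ P : Sylow 2 (autV F), ∀ x : (P : Subgroup (autV F)), x ^ 2 ∈ commutator (P : Subgroup (autV F)) := by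
  classical
  haveI : Fact (Nat.Prime 2) := ⟨Nat.prime_two⟩
  have h2 : (2 : F) ≠ 0 := by
    intro h
    have h1 : ringChar F = 2 := (CharP.ringChar_of_prime_eq_zero Nat.prime_two (by exact_mod_cast h))
    have := (FiniteField.even_card_iff_char_two (F := F)).1 h1
    rcases hodd with ⟨t, ht⟩
    omega
  obtain ⟨Pg, ε, hδ, hw, hdetP⟩ := exists_data (F := F) hodd
  -- the Sylow subgroup of the pairs
  obtain ⟨S2, hS2⟩ := exists_sylow_prod Pg
  obtain ⟨K2, hK2⟩ := exists_sylow_comap (pairs F).subtype (pairs F).subtype_injective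
    (by
      rw [Subgroup.range_subtype]
      refine ⟨fun k hk g => ?_⟩
      show Matrix.GeneralLinearGroup.det (g * k * g⁻¹).1 = Matrix.GeneralLinearGroup.det (g * k * g⁻¹).2
      have hk' : Matrix.GeneralLinearGroup.det k.1 = Matrix.GeneralLinearGroup.det k.2 := hk
      simp only [Prod.fst_mul, Prod.snd_mul, Prod.fst_inv, Prod.snd_inv, map_mul, map_inv, hk',
        mul_inv_cancel_comm]) S2
  have hmemK : ∀ k : pairs F, k ∈ (K2 : Subgroup (pairs F)) ↔
      k.1.1 ∈ (Pg : Subgroup GL₂) ∧ k.1.2 ∈ (Pg : Subgroup GL₂) := fun k => by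
    rw [hK2, Subgroup.mem_comap, hS2, Subgroup.mem_prod]; rfl
  -- a Sylow subgroup of `SL₂`
  obtain ⟨Q, hQ⟩ := exists_sylow_comap (Matrix.SpecialLinearGroup.toGL (n := Fin 2) (R := F))
    (fun u v h => Subtype.ext (congrArg (fun g : GL₂ => (g : M₂)) h))
    (by
      have : (Matrix.SpecialLinearGroup.toGL (n := Fin 2) (R := F)).range =
          (Matrix.GeneralLinearGroup.det (n := Fin 2) (R := F)).ker := by
        ext g
        constructor
        · rintro ⟨u, rfl⟩
          exact Units.ext (by simp)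
        · intro hg
          exact ⟨⟨(g : M₂), by simpa using congrArg Units.val hg⟩, Units.ext rfl⟩
      rw [this]
      exact MonoidHom.normal_ker _) Pg
  obtain ⟨k, hk, ⟨e⟩⟩ := CfsgLib.Linear.SylowTwoSL.exists_quaternion hodd Q
  let ιQ : (Q : Subgroup (SpecialLinearGroup (Fin 2) F)) →* GL₂ :=
    (Matrix.SpecialLinearGroup.toGL).comp (Q : Subgroup (SpecialLinearGroup (Fin 2) F)).subtype
  have hιP : ∀ q, ιQ q ∈ (Pg : Subgroup GL₂) := fun q =>
    ((SetLike.ext_iff.1 hQ q.1).1 q.2 :)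
  have hιdet : ∀ q, Matrix.GeneralLinearGroup.det (ιQ q) = 1 := fun q => Units.ext (by simp [ιQ])
  let L : (Q : Subgroup (SpecialLinearGroup (Fin 2) F)) →* (K2 : Subgroup (pairs F)) :=
    { toFun := fun q => ⟨⟨(ιQ q, 1), by
          show Matrix.GeneralLinearGroup.det (ιQ q) = Matrix.GeneralLinearGroup.det 1
          rw [hιdet, map_one]⟩, (hmemK _).2 ⟨hιP q, one_mem _⟩⟩
      map_one' := by ext1; ext1; simp
      map_mul' := fun a b => by ext1; ext1; simp }
  let R : (Q : Subgroup (SpecialLinearGroup (Fin 2) F)) →* (K2 : Subgroup (pairs F)) :=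
    { toFun := fun q => ⟨⟨(1, ιQ q), by
          show Matrix.GeneralLinearGroup.det 1 = Matrix.GeneralLinearGroup.det (ιQ q)
          rw [hιdet, map_one]⟩, (hmemK _).2 ⟨one_mem _, hιP q⟩⟩
      map_one' := by ext1; ext1; simp
      map_mul' := fun a b => by ext1; ext1; simp }
  let D : (Pg : Subgroup GL₂) →* (K2 : Subgroup (pairs F)) :=
    { toFun := fun a => ⟨⟨((a : GL₂), (a : GL₂)), rfl⟩, (hmemK _).2 ⟨a.2, a.2⟩⟩
      map_one' := by ext1; ext1; simp
      map_mul' := fun a b => by ext1; ext1; simp }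
  -- the Sylow subgroup of the automorphism group
  set X := (act (F := F)).range with hX
  let Sr : Sylow 2 X := K2.mapSurjective (act (F := F)).rangeRestrict_surjective
  have hSr : ((Sr : Subgroup X).map X.subtype) = (K2 : Subgroup (pairs F)).map (act (F := F)) := by
    rw [Sylow.coe_mapSurjective, Subgroup.map_map]; rfl
  set S := (K2 : Subgroup (pairs F)).map (act (F := F)) with hSdef
  let z : autV F := act (inv0 F)
  have hz2 : z * z = 1 := by
    rw [← map_mul, ← map_one (act (F := F))]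
    congr 1
    ext1; ext1 <;> simp [inv0]
  have hneg : (-1 : GL₂) ∈ (Pg : Subgroup GL₂) := by
    have : (-1 : GL₂) = swapJ F * swapJ F := by
      ext1; simp [swapJ, Matrix.mul_fin_two, Matrix.one_fin_two]
    rw [this]; exact mul_mem hw hw
  have hzS : z ∈ S := Subgroup.mem_map_of_mem _ ((hmemK (inv0 F)).2 ⟨one_mem _, hneg⟩)
  have hSp : IsPGroup 2 S := K2.isPGroup'.map _
  have hcen : ∀ x ∈ S, (∀ y ∈ S, x * y = y * x) → x = 1 ∨ x = z := by
    rintro _ ⟨m, hm, rfl⟩ hc
    obtain ⟨q1, q2, hq⟩ := exists_noncomm_quaternion hk e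
    have hne : (ιQ q1 : M₂) * (ιQ q2 : M₂) ≠ (ιQ q2 : M₂) * (ιQ q1 : M₂) := fun h => hq (by
      rw [← Units.val_mul, ← Units.val_mul, ← map_mul, ← map_mul] at h
      exact Subtype.ext (Subtype.ext h))
    have hd1 : ∀ q, (m.1.1 : M₂) * (ιQ q : M₂) = (ιQ q : M₂) * (m.1.1 : M₂) := by
      intro q
      have h := congrArg (fun f : autV F => ((f : V F ≃ₗ[F] V F) (0, 1)).2)
        (hc _ (Subgroup.mem_map_of_mem _ (L q).2))
      simp only [← map_mul, act_apply] at h
      have h' := congrArg (fun M : M₂ => (↑(m.1.2)⁻¹ : M₂) * M) h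
      simp [L, mul_assoc] at h'
      have h'' : ((m.1.1 * ιQ q)⁻¹ : GL₂) = (ιQ q * m.1.1)⁻¹ := Units.ext (by simpa [mul_assoc] using h')
      simpa using congrArg Units.val (inv_injective h'')
    have hd2 : ∀ q, (m.1.2 : M₂) * (ιQ q : M₂) = (ιQ q : M₂) * (m.1.2 : M₂) := by
      intro q
      have h := congrArg (fun f : autV F => ((f : V F ≃ₗ[F] V F) (0, (m.1.1 : M₂))).2)
        (hc _ (Subgroup.mem_map_of_mem _ (R q).2))
      simp only [← map_mul, act_apply] at h
      simpa [R, mul_assoc] using h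
    obtain ⟨c, hcs⟩ := scalar_of_commute (hd1 q1) (hd1 q2) hne
    obtain ⟨d, hds⟩ := scalar_of_commute (hd2 q1) (hd2 q2) hne
    have hcd : c * c = d * d := by
      have h := det_eq m
      rw [hcs, hds] at h
      simpa [pow_two] using h
    have hc0 : c ≠ 0 := fun h => by
      have hu := (Matrix.isUnit_iff_isUnit_det _).1 (m.1.1).isUnit
      rw [hcs, h] at hu
      simp at hu
    have hinv : (↑(m.1.1)⁻¹ : M₂) = Matrix.scalar (Fin 2) c⁻¹ := by
      rw [← mul_one (↑(m.1.1)⁻¹ : M₂),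
        show (1 : M₂) = (m.1.1 : M₂) * Matrix.scalar (Fin 2) c⁻¹ by
          rw [hcs, ← map_mul, mul_inv_cancel₀ hc0, map_one],
        Units.inv_mul_cancel_left]
    have hact : ∀ v, (act m : V F ≃ₗ[F] V F) v = (v.1, (d * c⁻¹) • v.2) := fun v => by
      rw [act_apply, hinv, hcs, hds]
      refine Prod.ext ?_ ?_ <;> ext i j <;>
        simp [Matrix.scalar_apply, Matrix.diagonal_mul, Matrix.mul_diagonal]
      · field_simp
      · ring
    rcases mul_self_eq_mul_self_iff.1 hcd with h | h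
    · left
      refine Subtype.ext (LinearEquiv.ext fun v => ?_)
      rw [hact, h, mul_inv_cancel₀ (h ▸ hc0), one_smul]
      rfl
    · right
      refine Subtype.ext (LinearEquiv.ext fun v => ?_)
      rw [hact, show d * c⁻¹ = -1 by
        have hd0 : d ≠ 0 := fun h' => hc0 (by rw [h, h', neg_zero])
        rw [h, inv_neg, mul_neg, mul_inv_cancel₀ hd0]]
      simp [z, act_apply, inv0]
  obtain ⟨T, hST⟩ := hSp.exists_le_sylow
  have hTS : (T : Subgroup (autV F)) = S := by
    by_contra hne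
    haveI : Group.IsNilpotent (T : Subgroup (autV F)) := T.isPGroup'.isNilpotent
    have hlt : S.subgroupOf (T : Subgroup (autV F)) < ⊤ := lt_of_le_of_ne le_top (fun h =>
      hne (le_antisymm (Subgroup.subgroupOf_eq_top.1 h) hST))
    obtain ⟨t, htN, htS⟩ := SetLike.exists_of_lt
      (normalizerCondition_of_isNilpotent _ hlt)
    have htN' := Subgroup.mem_normalizer_iff.1 htN
    have hconj : ∀ y ∈ S, (t : autV F) * y * (t : autV F)⁻¹ ∈ S := fun y hy => by
      simpa [Subgroup.mem_subgroupOf] using (htN' ⟨y, hST hy⟩).1 hy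
    have hconj' : ∀ y ∈ S, (t : autV F)⁻¹ * y * (t : autV F) ∈ S := fun y hy => by
      have h := (htN' (t⁻¹ * ⟨y, hST hy⟩ * t)).2
      simp only [Subgroup.mem_subgroupOf, Subgroup.coe_mul, Subgroup.coe_inv] at h
      exact h (by simpa [mul_assoc] using hy)
    have hzc : ∀ y ∈ S, z * y = y * z := by
      rintro _ ⟨m, -, rfl⟩
      rw [← map_mul, ← map_mul]
      congr 1
      ext1; ext1 <;> simp [inv0]
    have htz : (t : autV F) * z * (t : autV F)⁻¹ = z := by
      refine (hcen _ (hconj z hzS) fun y hy => ?_).resolve_left fun h => ?_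
      · have h := hzc _ (hconj' y hy)
        calc (t : autV F) * z * (t : autV F)⁻¹ * y
            = (t : autV F) * (z * ((t : autV F)⁻¹ * y * t)) * (t : autV F)⁻¹ := by group
          _ = y * ((t : autV F) * z * (t : autV F)⁻¹) := by rw [h]; group
      · exact inv0_ne h2 (conj_eq_one_iff.1 h)
    have htX : (t : autV F) ∈ X := mem_range_of_commute h2 (mul_inv_eq_iff_eq_mul.1 htz)
    have hle : (Sr : Subgroup X) ≤ (T : Subgroup (autV F)).subgroupOf X := fun x hx => by
      refine Subgroup.mem_subgroupOf.2 (hST ?_)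
      rw [← hSr]
      exact Subgroup.mem_map_of_mem _ hx
    have heq := Sr.is_maximal' T.isPGroup'.comap_subtype hle
    refine htS (Subgroup.mem_subgroupOf.2 ?_)
    rw [← hSr]
    exact ⟨⟨_, htX⟩, heq ▸ (Subgroup.mem_subgroupOf.2 t.2), rfl⟩
  -- squares
  let A := (K2 : Subgroup (pairs F))
  let f : A →* Abelianization S :=
    (powMonoidHom 2).comp (Abelianization.of.comp ((act (F := F)).subgroupMap A))
  have fQ : ∀ (g : (Q : Subgroup (SpecialLinearGroup (Fin 2) F)) →* A) q, f (g q) = 1 := fun g q => by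
    show Abelianization.of ((act (F := F)).subgroupMap A (g q)) ^ 2 = 1
    rw [← map_pow, ← map_pow, ← map_pow]
    exact Abelianization.commutator_subset_ker (Abelianization.of.comp (((act (F := F)).subgroupMap A).comp g))
      (sq_mem_commutator_quaternion hk e q)
  have fδ : f (D ⟨_, hδ⟩) = 1 := by
    show Abelianization.of ((act (F := F)).subgroupMap A (D ⟨_, hδ⟩)) ^ 2 = 1
    set δ : (Pg : Subgroup GL₂) := ⟨_, hδ⟩
    set w : (Pg : Subgroup GL₂) := ⟨_, hw⟩
    have hc : (act (F := F)).subgroupMap A (D δ) ^ 2 =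
        (act (F := F)).subgroupMap A (D (δ * w * δ⁻¹ * w⁻¹)) := by
      refine Subtype.ext (Subtype.ext (LinearEquiv.ext fun v => ?_))
      show (((act ((D δ).1) ^ 2 : autV F) : V F ≃ₗ[F] V F)) v = _
      rw [← map_pow, act_apply]
      show _ = (act (D (δ * w * δ⁻¹ * w⁻¹)).1 : V F ≃ₗ[F] V F) v
      rw [act_apply]
      have hd : ((δ : GL₂) ^ 2) = Matrix.GeneralLinearGroup.scalar (Fin 2) ε *
          ((δ * w * δ⁻¹ * w⁻¹ : (Pg : Subgroup GL₂)) : GL₂) := by
        show diag F (ε, 1) ^ 2 = _ * (diag F (ε, 1) * swapJ F * (diag F (ε, 1))⁻¹ * (swapJ F)⁻¹)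
        ext1
        simp [swapJ, diag, pow_two, Matrix.mul_fin_two, Matrix.one_fin_two, mul_assoc]
        ext i j
        fin_cases i <;> fin_cases j <;> simp [Matrix.diagonal_mul]
      have hs : ∀ y : M₂, ∀ g : GL₂, ((Matrix.GeneralLinearGroup.scalar (Fin 2) ε * g : GL₂) : M₂) * y *
          (↑(Matrix.GeneralLinearGroup.scalar (Fin 2) ε * g)⁻¹ : M₂) = (g : M₂) * y * (↑g⁻¹ : M₂) := by
        intro y g
        rw [_root_.mul_inv_rev, Units.val_mul, Units.val_mul]
        rw [show ((Matrix.GeneralLinearGroup.scalar (Fin 2) ε : GL₂) : M₂) = Matrix.scalar (Fin 2) (ε : F) from rfl,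
          show (((Matrix.GeneralLinearGroup.scalar (Fin 2) ε)⁻¹ : GL₂) : M₂) = Matrix.scalar (Fin 2) ((ε⁻¹ : Fˣ) : F) by
            rw [← map_inv]; rfl]
        ext i j
        simp [Matrix.scalar_apply, Matrix.mul_assoc, Matrix.diagonal_mul, Matrix.mul_diagonal,
          ← Matrix.mul_assoc (_ * _)]
        rw [mul_comm (ε : F), mul_inv_cancel_right₀ ε.ne_zero]
      simp only [SubgroupClass.coe_pow, Prod.pow_fst, Prod.pow_snd]
      show ((((δ : GL₂) ^ 2 : GL₂) : M₂) * v.1 * (↑((δ : GL₂) ^ 2)⁻¹ : M₂),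
        (((δ : GL₂) ^ 2 : GL₂) : M₂) * v.2 * (↑((δ : GL₂) ^ 2)⁻¹ : M₂)) = _
      rw [hd]
      exact Prod.ext (hs _ _) (hs _ _)
    rw [← map_pow, hc]
    simp only [map_mul, map_inv]
    exact commutatorElement_eq_one_iff_mul_comm.2 (mul_comm _ _)
  have fall : ∀ m : A, f m = 1 := by
    intro m
    obtain ⟨hm1, hm2⟩ := (hmemK m.1).1 m.2
    obtain ⟨i, hi⟩ := hdetP _ hm1
    set δ : (Pg : Subgroup GL₂) := ⟨_, hδ⟩
    have hdδ : Matrix.GeneralLinearGroup.det (δ : GL₂) = ε := Units.ext (by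
      simp [δ, diag])
    have mk : ∀ a : GL₂, a ∈ (Pg : Subgroup GL₂) → Matrix.GeneralLinearGroup.det a = ε ^ i →
        ∃ q, ιQ q = a * (((δ : GL₂)) ^ i)⁻¹ := by
      intro a ha hda
      have hd : Matrix.GeneralLinearGroup.det (a * (((δ : GL₂)) ^ i)⁻¹) = 1 := by
        rw [map_mul, map_inv, map_pow, hdδ, hda, mul_inv_cancel]
      refine ⟨⟨⟨((a * (((δ : GL₂)) ^ i)⁻¹ : GL₂) : M₂), by simpa using congrArg Units.val hd⟩, ?_⟩,
        Units.ext rfl⟩
      refine (SetLike.ext_iff.1 hQ _).2 ?_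
      show Matrix.SpecialLinearGroup.toGL _ ∈ (Pg : Subgroup GL₂)
      convert mul_mem ha (inv_mem (pow_mem δ.2 i)) using 1
      exact Units.ext rfl
    obtain ⟨qa, hqa⟩ := mk _ hm1 hi
    obtain ⟨qb, hqb⟩ := mk _ hm2 (by
      rw [← show Matrix.GeneralLinearGroup.det m.1.1.1 = Matrix.GeneralLinearGroup.det m.1.1.2 from m.1.2, hi])
    have hm : m = L qa * R qb * D δ ^ i := by
      ext1; ext1
      refine Prod.ext ?_ ?_ <;> simp [L, R, D, hqa, hqb]
    rw [hm, map_mul, map_mul, map_pow, fQ, fQ, fδ, one_pow, one_mul, one_mul]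
  intro P x
  rw [← CfsgLib.Quad.mem_commutator_equiv (Sylow.equiv P T), map_pow]
  generalize Sylow.equiv P T x = y
  have : ∀ y : S, y ^ 2 ∈ commutator S := fun y => by
    obtain ⟨m, rfl⟩ := (act (F := F)).subgroupMap_surjective A y
    rw [← Abelianization.ker_of, MonoidHom.mem_ker, map_pow]
    exact fall m
  rw [← CfsgLib.Quad.mem_commutator_equiv (MulEquiv.subgroupCongr hTS), map_pow]
  exact this _

/-- Squares in Sylow 2-subgroups of `G₂(q)` lie in the derived subgroup. -/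
theorem sq_mem (hodd : Odd (Fintype.card F)) (P : Sylow 2 (Cfsg.Lie.G2 F)) :
    ∀ x : (P : Subgroup (Cfsg.Lie.G2 F)), x ^ 2 ∈ commutator (P : Subgroup (Cfsg.Lie.G2 F)) := by
  haveI : Finite (autV F) := Finite.of_equiv _ (equivAut (F := F)).toEquiv
  haveI : Fact (Nat.Prime 2) := ⟨Nat.prime_two⟩
  intro x
  let e := equivAut (F := F)
  let P' : Sylow 2 (autV F) := P.mapSurjective (f := e.toMonoidHom) e.surjective
  rw [← CfsgLib.Quad.mem_commutator_equiv (e.subgroupMap (P : Subgroup (Cfsg.Lie.G2 F))), map_pow]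
  exact sq_mem_aut hodd P' _

end CfsgLib.GTwoSylow
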